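import Groth.Agent.Lib.DlzFin27.Global
import Groth.Agent.Lib.GorFib27.Apps
import Groth.Agent.Lib.Dlz27.FlatExtApps
import Groth.Agent.Lib.Cohen.Structure
import Groth.Agent.Lib.Dlz27.GorensteinDual

/-!
# Existence of dualizing complexes; finite maps
-/

set_option autoImplicit false
universe u

open CategoryTheory CategoryTheory.Limits

attribute [local instance] HasDerivedCategory.standard

noncomputable section

namespace Groth.Agent.DlzFin27

open Dlz27 GorFib27

variable {A B : Type u} [CommRing A] [CommRing B] [Algebra A B]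

theorem finite_HD_rightAdjoint [IsNoetherianRing A] [Module.Finite A B] (R : Dual.D A ⥤ Dual.D B)
    (adj : DRing.restrictD (algebraMap A B) ⊣ R) (K : Dual.D A) (a : ℤ) (hKa : ∀ i : ℤ, i < a → Subsingleton (Dual.HD A K i))
    (hK : ∀ i : ℤ, Module.Finite A (Dual.HD A K i)) (i : ℤ) : Module.Finite B (Dual.HD B (R.obj K) i) := by
  obtain ⟨W, hW, hWi, hWK, ⟨e⟩⟩ := HTFin27.exists_res_bounded K a hKa
  haveI := hW
  haveI := hWK
  haveI : (coextCx B W).IsKInjective :=
    @CochainComplex.isKInjective_of_injective _ _ _ (coextCx B W) a _ (injective_coextCx W hWi)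
  obtain ⟨eR⟩ := nonempty_rightAdjoint_iso W R adj
  haveI h1 : Module.Finite B ((HomologicalComplex.homologyFunctor (ModuleCat.{u} B) (ComplexShape.up ℤ) i).obj (coextCx B W)) :=
    finite_homology_coext W hWi a (finite_homology_model hK W e) i
  exact Module.Finite.equiv (((DerivedCategory.homologyFunctorFactors (ModuleCat.{u} B) i).app (coextCx B W)).symm ≪≫
    (DerivedCategory.homologyFunctor (ModuleCat.{u} B) i).mapIso (eR.symm ≪≫ R.mapIso e)).toLinearEquiv

theorem isNormalized_rightAdjoint [IsLocalRing A] [IsLocalRing B] [IsLocalHom (algebraMap A B)] [IsNoetherianRing A]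
    [IsNoetherianRing B] [Module.Finite A B] (R : Dual.D A ⥤ Dual.D B)
    (adj : DRing.restrictD (algebraMap A B) ⊣ R) {ω : Dual.D A} (hω : Dual.IsDualizing A ω)
    (hn : Dual.IsNormalized A ω) : Dual.IsDualizing B (R.obj ω) ∧ Dual.IsNormalized B (R.obj ω) := by
  refine ⟨isDualizing_rightAdjoint R adj hω, fun i hi => ?_⟩
  let M := model hω
  let C := coextCx B M.W
  haveI : C.IsKInjective := @CochainComplex.isKInjective_of_injective _ _ _ C M.lo _ (injective_coextCx M.W M.inj)
  obtain ⟨e⟩ := nonempty_rightAdjoint_iso M.W R adj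
  obtain ⟨d, hvan, ⟨el⟩⟩ := ext_residue hω (IsLocalRing.maximalIdeal A)
  have hd : d = 0 := by
    by_contra hd
    haveI : Subsingleton (Dual.inD A (A ⧸ IsLocalRing.maximalIdeal A) ⟶ ω⟦d⟧) := hn d hd
    haveI := el.symm.toEquiv.subsingleton
    exact (IsLocalRing.maximalIdeal.isMaximal A).ne_top (Ideal.Quotient.subsingleton_iff.1 inferInstance)
  subst hd
  have hresA : Res M.W (IsLocalRing.maximalIdeal A) 0 :=
    res_of_hom (fun j hj => haveI := hvan j hj
        (Linear.homCongr A (Iso.refl _) ((shiftFunctor (Dual.D A) j).mapIso M.e)).toEquiv.subsingleton)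
      ((Linear.homCongr A (Iso.refl _) ((shiftFunctor (Dual.D A) (0 : ℤ)).mapIso M.e)) ≪≫ₗ el)
  haveI := (hom_of_res (res_coext (IsLocalRing.maximalIdeal B) (IsLocalRing.maximalIdeal A)
    (IsLocalRing.maximalIdeal_comap (algebraMap A B)) hresA)).1 i hi
  exact (Linear.homCongr B (Iso.refl (Dual.inD B (B ⧸ IsLocalRing.maximalIdeal B)))
    ((shiftFunctor (Dual.D B) i).mapIso ((R.mapIso M.e).symm ≪≫ e))).toEquiv.subsingleton

omit [Algebra A B] in
theorem exists_isDualizing_of_ringEquiv [IsNoetherianRing A] [IsNoetherianRing B] (e : A ≃+* B) {ω : Dual.D A}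
    (hω : Dual.IsDualizing A ω) : ∃ ω' : Dual.D B, Dual.IsDualizing B ω' := by
  letI := e.toRingHom.toAlgebra
  haveI : Module.Finite A B := Module.Finite.of_surjective (Algebra.linearMap A B) e.surjective
  exact exists_isDualizing_of_finite hω

theorem exists_isDualizing_of_finiteType [IsNoetherianRing A] [Algebra.FiniteType A B] {ω : Dual.D A}
    (hω : Dual.IsDualizing A ω) : ∃ ω' : Dual.D B, Dual.IsDualizing B ω' := by
  obtain ⟨n, f, hf⟩ := Algebra.FiniteType.iff_quotient_mvPolynomial''.1 (inferInstance : Algebra.FiniteType A B)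
  let P := MvPolynomial (Fin n) A
  haveI : Algebra.Smooth A P := ⟨inferInstance, inferInstance⟩
  have hP : Dual.IsDualizing P (DerivedCategory.Q.obj (eC (algebraMap A P) (model hω).W)) :=
    isDualizing_ext_of_gorenstein hω (model hω)
      (dim_lt_top_of_finiteType (Dlz27.ringKrullDim_lt_top hω (model hω)))
      (gorenstein_fibLocRing_of_fibre fun p => gorenstein_of_smooth p.asIdeal.ResidueField _)
  letI := f.toRingHom.toAlgebra
  haveI : Module.Finite P B := Module.Finite.of_surjective (Algebra.linearMap P B) hf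
  haveI : IsNoetherianRing B := Algebra.FiniteType.isNoetherianRing A B
  exact exists_isDualizing_of_finite hP

theorem exists_isDualizing_of_essFiniteType [IsNoetherianRing A] [Algebra.EssFiniteType A B] {ω : Dual.D A}
    (hω : Dual.IsDualizing A ω) : ∃ ω' : Dual.D B, Dual.IsDualizing B ω' := by
  let S₀ := Algebra.EssFiniteType.subalgebra A B
  let S := Algebra.EssFiniteType.submonoid A B
  haveI : IsNoetherianRing S₀ := Algebra.FiniteType.isNoetherianRing A S₀
  obtain ⟨ω₀, hω₀⟩ := exists_isDualizing_of_finiteType (B := S₀) hω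
  haveI : IsNoetherianRing (Localization S) := IsLocalization.isNoetherianRing S _ inferInstance
  haveI : IsNoetherianRing B := IsLocalization.isNoetherianRing S B inferInstance
  exact exists_isDualizing_of_ringEquiv (IsLocalization.algEquiv S (Localization S) B).toRingEquiv
    (isDualizing_locCx S hω₀ (model hω₀))

theorem exists_isDualizing_of_complete (A : Type u) [CommRing A] [IsLocalRing A] [IsNoetherianRing A]
    [IsAdicComplete (IsLocalRing.maximalIdeal A) A] : ∃ ω : Dual.D A, Dual.IsDualizing A ω := by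
  obtain ⟨R, _, _, f, hf⟩ := Cohen.exists_regular_surjection A
  have hR : Dual.IsDualizing R (Dual.inD R R) :=
    (gorenstein_iff_isDualizing R).1 (@S0342.result R _ ‹_›)
  letI := f.toAlgebra
  haveI : Module.Finite R A := Module.Finite.of_surjective (Algebra.linearMap R A) hf
  exact exists_isDualizing_of_finite hR

end Groth.Agent.DlzFin27

namespace Groth.Agent.DlzFin27

open Dlz27 GorFib27

theorem isNormalized_LBaseChange_unramified {A B : Type u} [CommRing A] [CommRing B] [IsLocalRing A] [IsLocalRing B]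
    [IsNoetherianRing A] [IsNoetherianRing B] (φ : A →+* B) (hφ : φ.Flat)
    (hm : (IsLocalRing.maximalIdeal A).map φ = IsLocalRing.maximalIdeal B) [DRing.HasLBaseChange φ] {ω : Dual.D A}
    (hω : Dual.IsDualizing A ω) (hn : Dual.IsNormalized A ω) :
    Dual.IsDualizing B ((DRing.LBaseChange φ).obj ω) ∧ Dual.IsNormalized B ((DRing.LBaseChange φ).obj ω) := by
  refine ⟨Dlz27.isDualizing_LBaseChange_local φ hφ hω hm, fun i hi => ?_⟩
  let M := model hω
  obtain ⟨d, hvan, ⟨el⟩⟩ := ext_residue hω (IsLocalRing.maximalIdeal A)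
  have hd : d = 0 := by
    by_contra hd
    haveI : Subsingleton (Dual.inD A (A ⧸ IsLocalRing.maximalIdeal A) ⟶ ω⟦d⟧) := hn d hd
    haveI := el.symm.toEquiv.subsingleton
    exact (IsLocalRing.maximalIdeal.isMaximal A).ne_top (Ideal.Quotient.subsingleton_iff.1 inferInstance)
  subst hd
  obtain ⟨h, -⟩ := fibre_hom φ M hφ (IsLocalRing.maximalIdeal A) 0 hvan el
  haveI := RGamma27.isIso_valueMap_of_flat φ hφ M.W
  let e : DerivedCategory.Q.obj (eC φ M.W) ≅ (DRing.LBaseChange φ).obj ω :=
    (asIso ((DBaseChange.valueMap φ).app M.W)).symm ≪≫ (DRing.LBaseChange φ).mapIso M.e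
  haveI := h i hi
  exact (Linear.homCongr B ((DerivedCategory.singleFunctor (ModuleCat.{u} B) 0).mapIso
    ((Submodule.quotEquivOfEq _ _ hm).toModuleIso : ModuleCat.of B _ ≅ ModuleCat.of B (B ⧸ IsLocalRing.maximalIdeal B)))
    ((shiftFunctor (Dual.D B) i).mapIso e)).symm.toEquiv.subsingleton

end Groth.Agent.DlzFin27
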