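import Groth.Agent.Lib.Dlz27.Point
import Groth.Agent.Lib.InjHull.Coextend
import Groth.Agent.Lib.KInj.DerivedAdj
import Groth.Prelude.Def_DDual2

/-!
# The right adjoint of derived restriction on K-injective complexes
-/

set_option autoImplicit false
universe u

open CategoryTheory CategoryTheory.Limits

attribute [local instance] HasDerivedCategory.standard

noncomputable section

namespace Groth.Agent.DlzFin27

variable {A B : Type u} [CommRing A] [CommRing B] [Algebra A B]

variable (B) in
/-- `Hom_A(B, W)` as a complex of `B`-modules. -/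
def coextCx (W : DRing.Cx A) : DRing.Cx B :=
  ((ModuleCat.coextendScalars.{u, u, u} (algebraMap A B)).mapHomologicalComplex (ComplexShape.up ℤ)).obj W

instance additive_coextend (φ : A →+* B) : (ModuleCat.coextendScalars.{u, u, u} φ).Additive :=
  (ModuleCat.restrictCoextendScalarsAdj.{u} φ).right_adjoint_additive

theorem injective_coextCx (W : DRing.Cx A) (hW : ∀ i, Injective (W.X i)) (i : ℤ) : Injective ((coextCx B W).X i) :=
  haveI := hW i
  Injective.injective_of_adjoint (ModuleCat.restrictCoextendScalarsAdj (algebraMap A B)) (W.X i)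

instance isStrictlyGE_coextCx (W : DRing.Cx A) (a : ℤ) [W.IsStrictlyGE a] : (coextCx B W).IsStrictlyGE a :=
  (CochainComplex.isStrictlyGE_iff _ _).2 fun i hi =>
    Functor.map_isZero (ModuleCat.coextendScalars.{u, u, u} (algebraMap A B)) (W.isZero_of_isStrictlyGE a i hi)

instance isStrictlyLE_coextCx (W : DRing.Cx A) (b : ℤ) [W.IsStrictlyLE b] : (coextCx B W).IsStrictlyLE b :=
  (CochainComplex.isStrictlyLE_iff _ _).2 fun i hi =>
    Functor.map_isZero (ModuleCat.coextendScalars.{u, u, u} (algebraMap A B)) (W.isZero_of_isStrictlyLE b i hi)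

theorem isIso_of_postcomp {C : Type*} [Category C] {X Y : C} (v : X ⟶ Y)
    (h : ∀ Z : C, Function.Bijective fun f : Z ⟶ X => f ≫ v) : IsIso v := by
  obtain ⟨w, hw⟩ := (h Y).2 (𝟙 Y)
  change w ≫ v = 𝟙 Y at hw
  refine ⟨w, (h X).1 ?_, hw⟩
  show (v ≫ w) ≫ v = 𝟙 X ≫ v
  rw [Category.assoc, hw, Category.comp_id, Category.id_comp]

theorem nonempty_rightAdjoint_iso (W : DRing.Cx A) [W.IsKInjective] [(coextCx B W).IsKInjective]
    (R : Dual.D A ⥤ Dual.D B) (adj : DRing.restrictD (algebraMap A B) ⊣ R) :
    Nonempty (R.obj (DerivedCategory.Q.obj W) ≅ DerivedCategory.Q.obj (coextCx B W)) := by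
  let φ := algebraMap A B
  let res := (ModuleCat.restrictScalars.{u} φ).mapHomologicalComplex (ComplexShape.up ℤ)
  let co := (ModuleCat.coextendScalars.{u, u, u} φ).mapHomologicalComplex (ComplexShape.up ℤ)
  let a : res ⊣ co := KInjLib.adjComplexes (ModuleCat.restrictCoextendScalarsAdj.{u} φ) _
  let fac := (ModuleCat.restrictScalars.{u} φ).mapDerivedCategoryFactors
  let u₀ : (DRing.restrictD φ).obj (DerivedCategory.Q.obj (coextCx B W)) ⟶ DerivedCategory.Q.obj W :=
    fac.hom.app (coextCx B W) ≫ DerivedCategory.Q.map (a.counit.app W)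
  let v := adj.homEquiv _ _ u₀
  have hQ : ∀ (L : DRing.Cx B) (g : L ⟶ coextCx B W),
      (adj.homEquiv _ _).symm (DerivedCategory.Q.map g ≫ v) =
        fac.hom.app L ≫ DerivedCategory.Q.map (res.map g ≫ a.counit.app W) := fun L g => by
    rw [Adjunction.homEquiv_naturality_left_symm, Equiv.symm_apply_apply, Functor.map_comp]
    exact (Category.assoc _ _ _).symm.trans ((congrArg (· ≫ _) (fac.hom.naturality g)).trans (Category.assoc _ _ _))
  have : IsIso v := isIso_of_postcomp v fun Z => by
    have : (DerivedCategory.Q : DRing.Cx B ⥤ Dual.D B).EssSurj :=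
      Localization.essSurj _ (HomologicalComplex.quasiIso (ModuleCat.{u} B) (ComplexShape.up ℤ))
    let L := (DerivedCategory.Q : DRing.Cx B ⥤ Dual.D B).objPreimage Z
    let eL : DerivedCategory.Q.obj L ≅ Z := (DerivedCategory.Q : DRing.Cx B ⥤ Dual.D B).objObjPreimageIso Z
    have key : Function.Bijective fun f : DerivedCategory.Q.obj L ⟶ DerivedCategory.Q.obj (coextCx B W) => f ≫ v := by
      constructor
      · intro f f' h
        obtain ⟨g, rfl⟩ := KInjLib.exists_map_eq f
        obtain ⟨g', rfl⟩ := KInjLib.exists_map_eq f'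
        have h1 := congrArg (adj.homEquiv _ _).symm h
        rw [hQ, hQ, cancel_epi] at h1
        obtain ⟨H⟩ := (KInjLib.map_eq_iff (I := W) _ _).1 h1
        rw [KInjLib.map_eq_iff]
        exact ⟨(Homotopy.ofEq ((a.homEquiv_unit _ _ _).symm.trans ((a.homEquiv L W).apply_symm_apply g)).symm).trans
          ((Homotopy.ofEq rfl).trans ((((ModuleCat.coextendScalars.{u, u, u} φ).mapHomotopy H).compLeft (a.unit.app L)).trans
            (Homotopy.ofEq ((a.homEquiv_unit _ _ _).symm.trans ((a.homEquiv L W).apply_symm_apply g')))))⟩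
      · intro h
        obtain ⟨k, hk⟩ := KInjLib.exists_map_eq (inv (fac.hom.app L) ≫ (adj.homEquiv _ _).symm h)
        refine ⟨DerivedCategory.Q.map (a.homEquiv L W k), (adj.homEquiv _ _).symm.injective ?_⟩
        refine (hQ L _).trans ?_
        refine (congrArg (fun t => fac.hom.app L ≫ DerivedCategory.Q.map t)
          ((a.homEquiv_counit _ _ _).symm.trans ((a.homEquiv L W).symm_apply_apply k))).trans ?_
        exact (congrArg (fac.hom.app L ≫ ·) hk).trans (IsIso.hom_inv_id_assoc _ _)
    constructor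
    · intro f f' h
      rw [← cancel_epi eL.hom]
      exact key.1 ((Category.assoc _ _ _).trans ((congrArg (eL.hom ≫ ·) h).trans (Category.assoc _ _ _).symm))
    · intro h
      obtain ⟨f, hf⟩ := key.2 (eL.hom ≫ h)
      refine ⟨eL.inv ≫ f, ?_⟩
      show (eL.inv ≫ f) ≫ v = h
      rw [Category.assoc, show f ≫ v = eL.hom ≫ h from hf, eL.inv_hom_id_assoc]
  exact ⟨(asIso v).symm⟩

end Groth.Agent.DlzFin27
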