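import Groth.Agent.Lib.DlzFin27.Finite
import Groth.Agent.Lib.Dlz27.Deg

/-!
# The dimension function of `Hom_A(B, W)` for a quotient `B` of `A`
-/

set_option autoImplicit false
universe u

open CategoryTheory CategoryTheory.Limits

attribute [local instance] HasDerivedCategory.standard

noncomputable section

namespace Groth.Agent.DlzFin27

open Dlz27

variable {A B : Type u} [CommRing A] [CommRing B] [Algebra A B] {W : DRing.Cx A}

theorem toH_add {i : ℤ} (x y : (coextCx B W).X i) : toH (x + y) = toH x + toH y :=
  map_add (InjHullLib.coextendToHom (A := A) (B := B)) x y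

/-- A map into `Hom_A(B, W^i)` evaluated at one. -/
def evalOne {N : Type u} [AddCommGroup N] [Module A N] [Module B N] [IsScalarTower A B N] {i : ℤ}
    (f : N →ₗ[B] (coextCx B W).X i) : N →ₗ[A] W.X i where
  toFun y := toH (f y) 1
  map_add' x y := by rw [map_add, toH_add, LinearMap.add_apply]
  map_smul' a y := by
    rw [← algebraMap_smul B a y, map_smul, toH_smul, one_mul, RingHom.id_apply, Algebra.algebraMap_eq_smul_one, map_smul]

theorem evalOne_d {N : Type u} [AddCommGroup N] [Module A N] [Module B N] [IsScalarTower A B N] {i j : ℤ}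
    (f : N →ₗ[B] (coextCx B W).X i) :
    evalOne (((coextCx B W).d i j).hom ∘ₗ f) = (W.d i j).hom ∘ₗ evalOne f := rfl

theorem evalOne_smul {N : Type u} [AddCommGroup N] [Module A N] [Module B N] [IsScalarTower A B N] {i : ℤ}
    (f : N →ₗ[B] (coextCx B W).X i) (a : A) : evalOne (algebraMap A B a • f) = a • evalOne f := LinearMap.ext fun y => by
  show toH (algebraMap A B a • f y) 1 = a • toH (f y) 1
  rw [toH_smul, one_mul, Algebra.algebraMap_eq_smul_one, map_smul]

theorem evalOne_bijective {N : Type u} [AddCommGroup N] [Module A N] [Module B N] [IsScalarTower A B N] (i : ℤ) :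
    Function.Bijective (evalOne (A := A) (B := B) (W := W) (N := N) (i := i)) := by
  refine ⟨fun f f' h => LinearMap.ext fun y => (toH_bijective i).1 (LinearMap.ext fun b => ?_), fun g => ?_⟩
  · have h1 : toH (f (b • y)) 1 = toH (f' (b • y)) 1 := LinearMap.congr_fun h (b • y)
    rwa [map_smul, map_smul, toH_smul, toH_smul, one_mul] at h1
  · let hb : N → (B →ₗ[A] W.X i) := fun y => g ∘ₗ ((LinearMap.toSpanSingleton B N y).restrictScalars A)
    choose x hx using fun y => (toH_bijective (A := A) (B := B) (W := W) i).2 (hb y)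
    refine ⟨{ toFun := x, map_add' := fun y z => ?_, map_smul' := fun c y => ?_ }, LinearMap.ext fun y => ?_⟩
    · refine (toH_bijective i).1 (LinearMap.ext fun b => ?_)
      rw [toH_add, hx, hx, hx, LinearMap.add_apply]
      show g (b • (y + z)) = g (b • y) + g (b • z)
      rw [smul_add, map_add]
    · refine (toH_bijective i).1 (LinearMap.ext fun b => ?_)
      rw [RingHom.id_apply, toH_smul, hx, hx]
      show g (b • c • y) = g ((b * c) • y)
      rw [mul_smul]
    · show toH (x y) 1 = g y
      rw [hx]
      show g ((1 : B) • y) = g y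
      rw [one_smul]

theorem vanS_coext_iff (hs : Function.Surjective (algebraMap A B)) (T : Submonoid B) (N : Type u) [AddCommGroup N]
    [Module A N] [Module B N] [IsScalarTower A B N] (i : ℤ) :
    VanS (coextCx B W) T N i ↔ VanS W (T.comap (algebraMap A B)) N i := by
  constructor
  · intro h g hg
    obtain ⟨f, rfl⟩ := (evalOne_bijective (A := A) (B := B) (W := W) (N := N) i).2 g
    have hf : ((coextCx B W).d i (i + 1)).hom ∘ₗ f = 0 := (evalOne_bijective _).1 (by
      rw [evalOne_d, hg]
      exact LinearMap.ext fun y => by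
        show (0 : W.X (i + 1)) = toH ((0 : N →ₗ[B] (coextCx B W).X (i + 1)) y) 1
        rw [LinearMap.zero_apply, toH_zero, LinearMap.zero_apply])
    obtain ⟨s, G, hG⟩ := h f hf
    obtain ⟨a, ha⟩ := hs s
    refine ⟨⟨a, show algebraMap A B a ∈ T by rw [ha]; exact s.2⟩, evalOne G, ?_⟩
    rw [← evalOne_d, hG]
    exact (congrArg (fun t => evalOne (A := A) (t • f)) ha).symm.trans (evalOne_smul f a)
  · intro h f hf
    have hg : (W.d i (i + 1)).hom ∘ₗ evalOne f = 0 := by
      rw [← evalOne_d, hf]
      exact LinearMap.ext fun y => by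
        show toH ((0 : N →ₗ[B] (coextCx B W).X (i + 1)) y) 1 = 0
        rw [LinearMap.zero_apply, toH_zero, LinearMap.zero_apply]
    obtain ⟨⟨a, ha⟩, g, hgg⟩ := h (evalOne f) hg
    obtain ⟨G, rfl⟩ := (evalOne_bijective (A := A) (B := B) (W := W) (N := N) (i - 1)).2 g
    refine ⟨⟨algebraMap A B a, ha⟩, G, (evalOne_bijective i).1 ?_⟩
    rw [evalOne_d, hgg, evalOne_smul]

end Groth.Agent.DlzFin27
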