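import Groth.Agent.Lib.DlzFin27.Adj
import Groth.Agent.Lib.GorFib27.ResData
import Groth.Agent.Lib.Dlz27.GlueApps
import Mathlib.LinearAlgebra.Basis.VectorSpace
import Mathlib.LinearAlgebra.Dual.Lemmas

/-!
# Dualizing complexes along finite ring maps
-/

set_option autoImplicit false
universe u

open CategoryTheory CategoryTheory.Limits

attribute [local instance] HasDerivedCategory.standard

noncomputable section

namespace Groth.Agent.DlzFin27

open Dlz27 GorFib27 RGamma27

variable {A B : Type u} [CommRing A] [CommRing B] [Algebra A B] {W : DRing.Cx A}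

/-- The linear map of an element of `coextCx`. -/
def toH {i : ℤ} (x : (coextCx B W).X i) : B →ₗ[A] W.X i := InjHullLib.coextendToHom x

theorem toH_bijective (i : ℤ) : Function.Bijective (toH (B := B) (W := W) (i := i)) :=
  InjHullLib.coextendToHom_bijective

theorem toH_d {i j : ℤ} (x : (coextCx B W).X i) : toH ((coextCx B W).d i j x) = (W.d i j).hom ∘ₗ toH x := rfl

theorem toH_zero {i : ℤ} : toH (0 : (coextCx B W).X i) = 0 := map_zero (InjHullLib.coextendToHom (A := A) (B := B))

theorem toH_smul {i : ℤ} (x : (coextCx B W).X i) (s b : B) : toH (s • x) b = toH x (b * s) := rfl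

theorem toH_sub {i : ℤ} (x y : (coextCx B W).X i) : toH (x - y) = toH x - toH y := map_sub _ x y

theorem xk_iff {n : Ideal B} {i : ℤ} (x : (coextCx B W).X i) :
    x ∈ Xk (coextCx B W) n i ↔ ∀ b ∈ n, toH x b = 0 := by
  rw [mem_Xk]
  constructor
  · intro h b hb
    rw [← one_mul b, ← toH_smul, h b hb, toH_zero, LinearMap.zero_apply]
  · intro h b hb
    refine (toH_bijective (W := W) (B := B) i).1 (LinearMap.ext fun c => ?_)
    rw [toH_smul, h _ (n.mul_mem_left c hb), toH_zero, LinearMap.zero_apply]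

theorem coext_d_eq_zero {i j : ℤ} {x : (coextCx B W).X i} :
    (coextCx B W).d i j x = 0 ↔ (W.d i j).hom ∘ₗ toH x = 0 := by
  rw [← toH_d]
  exact ⟨fun h => by rw [h, toH_zero], fun h => (toH_bijective j).1 (h.trans toH_zero.symm)⟩

/-- Residual data passes to `Hom_A(B, W)` at a maximal ideal with finite residue extension. -/
theorem res_coext [Module.Finite A B] (n : Ideal B) [n.IsMaximal] (m : Ideal A) [m.IsMaximal]
    (hnm : n.comap (algebraMap A B) = m) {d : ℤ} (h : Res W m d) : Res (coextCx B W) n d := by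
  classical
  obtain ⟨h0, x, hx, hann, hgen⟩ := h
  letI := Ideal.Quotient.field m
  letI := Ideal.Quotient.field n
  letI : Algebra (A ⧸ m) (B ⧸ n) := (Ideal.quotientMap n (algebraMap A B) hnm.ge).toAlgebra
  haveI : IsScalarTower A (A ⧸ m) (B ⧸ n) := IsScalarTower.of_algebraMap_eq fun a => rfl
  haveI : Module.Finite (A ⧸ m) (B ⧸ n) := Module.Finite.of_restrictScalars_finite A _ _
  let e := Module.finBasis (A ⧸ m) (B ⧸ n)
  have hkill : ∀ (i : ℤ) (y : (coextCx B W).X i), y ∈ Xk (coextCx B W) n i → ∀ b : B, toH y b ∈ Xk W m i := by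
    intro i y hy b
    refine (mem_Xk W m).2 fun a ha => ?_
    rw [← map_smul, Algebra.smul_def]
    exact (xk_iff y).1 hy _ (n.mul_mem_right b (show algebraMap A B a ∈ n by rw [← Ideal.mem_comap, hnm]; exact ha))
  let r := Module.finrank (A ⧸ m) (B ⧸ n)
  let lift : Fin r → B := fun l => (Ideal.Quotient.mk_surjective (e l)).choose
  have hlift : ∀ l, Ideal.Quotient.mk n (lift l) = e l := fun l => (Ideal.Quotient.mk_surjective (e l)).choose_spec
  let co : Fin r → B →ₗ[A] A ⧸ m := fun l => (e.coord l).restrictScalars A ∘ₗ (Ideal.Quotient.mkₐ A n).toLinearMap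
  let G : ∀ (i : ℤ) (v : Fin r → Xk W m i), B →ₗ[A] W.X i := fun i v =>
    ∑ l, ofKilled (v l : W.X i) (v l).2 ∘ₗ co l
  have hGn : ∀ i v, ∀ b ∈ n, G i v b = 0 := fun i v b hb => by
    rw [LinearMap.sum_apply]
    refine Finset.sum_eq_zero fun l _ => ?_
    show ofKilled (v l : W.X i) (v l).2 (e.coord l (Ideal.Quotient.mk n b)) = 0
    rw [Ideal.Quotient.eq_zero_iff_mem.2 hb, map_zero, map_zero]
  have hGd : ∀ i j (v : Fin r → Xk W m i), (W.d i j).hom ∘ₗ G i v =
      G j fun l => ⟨W.d i j (v l), map_mem_Xk W m (W.d i j).hom (v l).2⟩ := fun i j v => by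
    refine LinearMap.ext fun b => ?_
    rw [LinearMap.comp_apply, LinearMap.sum_apply, map_sum, LinearMap.sum_apply]
    refine Finset.sum_congr rfl fun l _ => ?_
    obtain ⟨q, hq⟩ := Submodule.Quotient.mk_surjective m (co l b)
    show (W.d i j).hom (ofKilled (v l : W.X i) (v l).2 (co l b)) =
      ofKilled (W.d i j (v l : W.X i)) (map_mem_Xk W m (W.d i j).hom (v l).2) (co l b)
    rw [← hq]
    exact map_smul (W.d i j).hom q _
  have hexp : ∀ i (y : (coextCx B W).X i) (hy : y ∈ Xk (coextCx B W) n i),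
      toH y = G i fun l => ⟨toH y (lift l), hkill i y hy (lift l)⟩ := fun i y hy => by
    refine LinearMap.ext fun b => ?_
    choose q hq using fun l => Submodule.Quotient.mk_surjective m (co l b)
    have hb : b - ∑ l, q l • lift l ∈ n := by
      rw [← Ideal.Quotient.eq_zero_iff_mem, map_sub, map_sum, sub_eq_zero]
      conv_lhs => rw [← e.sum_repr (Ideal.Quotient.mk n b)]
      refine Finset.sum_congr rfl fun l _ => ?_
      rw [Algebra.smul_def, Algebra.smul_def, map_mul, hlift,
        show e.repr (Ideal.Quotient.mk n b) l = Ideal.Quotient.mk m (q l) from (hq l).symm]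
      rfl
    have h1 := (xk_iff y).1 hy _ hb
    rw [map_sub, sub_eq_zero, map_sum] at h1
    rw [h1, LinearMap.sum_apply]
    refine Finset.sum_congr rfl fun l _ => ?_
    show toH y (q l • lift l) = ofKilled (toH y (lift l)) (hkill i y hy (lift l)) (co l b)
    rw [← hq l, map_smul]
    rfl
  have mk : ∀ i (v : Fin r → Xk W m i), ∃ y : (coextCx B W).X i, toH y = G i v ∧ y ∈ Xk (coextCx B W) n i := fun i v => by
    obtain ⟨y, hy⟩ := (toH_bijective (W := W) (B := B) i).2 (G i v)
    exact ⟨y, hy, (xk_iff y).2 fun b hb => by rw [hy]; exact hGn i v b hb⟩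
  have hcy : ∀ i (y : (coextCx B W).X i), XCy (coextCx B W) n i y → ∀ l, XCy W m i (toH y (lift l)) := fun i y hy l =>
    ⟨hkill i y hy.1 _, LinearMap.congr_fun ((coext_d_eq_zero).1 hy.2) _⟩
  refine ⟨fun i hi y hy => ?_, ?_⟩
  · choose w hw hdw using fun l => h0 i hi _ (hcy i y hy l)
    obtain ⟨z, hz, hzk⟩ := mk (i - 1) fun l => ⟨w l, hw l⟩
    refine ⟨z, hzk, (toH_bijective i).1 ?_⟩
    rw [toH_d, hz, hGd, hexp i y hy.1]
    exact congrArg (G i) (funext fun l => Subtype.ext (hdw l))
  have hr : 0 < r := Module.finrank_pos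
  let l₀ : Fin r := ⟨0, hr⟩
  let v₀ : Fin r → Xk W m d := fun l => if l = l₀ then ⟨x, hx.1⟩ else 0
  obtain ⟨xC, hxC, hxCk⟩ := mk d v₀
  have hxC' : ∀ b, toH xC b = ofKilled x hx.1 (co l₀ b) := fun b => by
    rw [hxC, LinearMap.sum_apply, Finset.sum_eq_single l₀ (fun l _ hl => ?_) (fun hl => absurd (Finset.mem_univ _) hl)]
    · simp [v₀]
    · obtain ⟨q, hq⟩ := Submodule.Quotient.mk_surjective m (co l b)
      show ofKilled (v₀ l : W.X d) (v₀ l).2 (co l b) = 0
      rw [← hq]
      show q • ((v₀ l : W.X d)) = 0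
      simp [v₀, hl]
  let dualMap : (B ⧸ n) →ₗ[A ⧸ m] Module.Dual (A ⧸ m) (B ⧸ n) :=
    { toFun := fun q => e.coord l₀ ∘ₗ LinearMap.mulRight (A ⧸ m) q
      map_add' := fun q q' => LinearMap.ext fun c => by simp [mul_add]
      map_smul' := fun a q => LinearMap.ext fun c => by simp }
  have hdual : Function.Injective dualMap := (injective_iff_map_eq_zero dualMap).2 fun q hq => by
    by_contra hq0
    have h1 := LinearMap.congr_fun hq (e l₀ * q⁻¹)
    have h2 : e.coord l₀ (e l₀) = 1 := by simp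
    simp [dualMap, mul_assoc, inv_mul_cancel₀ hq0] at h1
  have hdim : Module.finrank (A ⧸ m) (B ⧸ n) = Module.finrank (A ⧸ m) (Module.Dual (A ⧸ m) (B ⧸ n)) :=
    Subspace.dual_finrank_eq.symm
  have hdualS : Function.Surjective dualMap :=
    (LinearMap.injective_iff_surjective_of_finrank_eq_finrank hdim).1 hdual
  refine ⟨xC, ⟨hxCk, coext_d_eq_zero.2 (LinearMap.ext fun b => ?_)⟩, fun b hb => ?_, fun y hy => ?_⟩
  · rw [LinearMap.comp_apply, hxC']
    obtain ⟨q, hq⟩ := Submodule.Quotient.mk_surjective m (co l₀ b)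
    rw [← hq]
    show W.d d (d + 1) (q • x) = 0
    rw [map_smul, hx.2, smul_zero]
  · obtain ⟨z, hz, hdz⟩ := hb
    by_contra hbn
    obtain ⟨c, hc⟩ := Ideal.Quotient.mk_surjective (e l₀ * (Ideal.Quotient.mk n b)⁻¹)
    have hmk : Ideal.Quotient.mk n b ≠ 0 := fun h => hbn (Ideal.Quotient.eq_zero_iff_mem.1 h)
    have h1 := congrArg (fun t => toH t c) hdz
    rw [toH_d] at h1
    refine (Ideal.IsMaximal.ne_top (I := m) inferInstance) ((Ideal.eq_top_iff_one _).2 (hann 1 ⟨toH z c, hkill _ z hz c, ?_⟩))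
    refine Eq.trans h1 ?_
    rw [toH_smul, hxC', one_smul, show co l₀ (c * b) = 1 from ?_, ofKilled_one]
    show e.coord l₀ (Ideal.Quotient.mk n (c * b)) = 1
    rw [map_mul, hc, mul_assoc, inv_mul_cancel₀ hmk, mul_one]
    simp
  · choose a w hw hdw using fun l => hgen _ (hcy d y hy l)
    obtain ⟨q, hq⟩ := hdualS (e.constr (A ⧸ m) fun l => Ideal.Quotient.mk m (a l))
    obtain ⟨b, rfl⟩ := Ideal.Quotient.mk_surjective q
    obtain ⟨z, hz, hzk⟩ := mk (d - 1) fun l => ⟨w l, hw l⟩
    refine ⟨b, z, hzk, (toH_bijective d).1 (LinearMap.ext fun c => ?_)⟩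
    rw [toH_d, hz, hGd, toH_sub, LinearMap.sub_apply, toH_smul, hexp d y hy.1, hxC', LinearMap.sum_apply,
      LinearMap.sum_apply]
    have hμ : co l₀ (c * b) = ∑ l, co l c • Ideal.Quotient.mk m (a l) := by
      have := LinearMap.congr_fun hq (Ideal.Quotient.mk n c)
      rw [Module.Basis.constr_apply_fintype] at this
      exact (congrArg (e.coord l₀) (map_mul (Ideal.Quotient.mk n) c b)).trans this
    rw [hμ, map_sum, ← Finset.sum_sub_distrib]
    refine Finset.sum_congr rfl fun l _ => ?_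
    obtain ⟨t, ht⟩ := Submodule.Quotient.mk_surjective m (co l c)
    simp only [LinearMap.comp_apply, ← ht]
    show t • W.d (d - 1) d (w l) = t • toH y (lift l) - ofKilled x hx.1 (Ideal.Quotient.mk m t * Ideal.Quotient.mk m (a l))
    rw [← map_mul]
    show _ = _ - (t * a l) • x
    rw [hdw, smul_sub, mul_smul]

end Groth.Agent.DlzFin27
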