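import Groth.Agent.Lib.DlzFin27.Finite
import Groth.Agent.Lib.Dlz27.Converse2

/-!
# `Hom_A(B, W)` is dualizing for a finite `A → B`
-/

set_option autoImplicit false
universe u

open CategoryTheory CategoryTheory.Limits

attribute [local instance] HasDerivedCategory.standard

noncomputable section

namespace Groth.Agent.DlzFin27

open Dlz27 GorFib27 RGamma27

theorem killed_bijection {B : Type u} [CommRing B] [IsNoetherianRing B] (C : DRing.Cx B) (n : Ideal B) [n.IsMaximal] (i : ℤ) :
    (∀ x ∈ Xk C n i, (C.X i).localizedModuleMkLinearMap n.primeCompl x ∈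
        Xk (locCx n.primeCompl C) (IsLocalRing.maximalIdeal (Localization n.primeCompl)) i ∧
      ((C.X i).localizedModuleMkLinearMap n.primeCompl x = 0 → x = 0)) ∧
    ∀ y ∈ Xk (locCx n.primeCompl C) (IsLocalRing.maximalIdeal (Localization n.primeCompl)) i,
      ∃ x ∈ Xk C n i, (C.X i).localizedModuleMkLinearMap n.primeCompl x = y := by
  let S := n.primeCompl
  let L := Localization S
  let 𝔪 := IsLocalRing.maximalIdeal L
  let g := (C.X i).localizedModuleMkLinearMap S
  have hm : 𝔪 = n.map (algebraMap B L) := (Localization.AtPrime.map_eq_maximalIdeal).symm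
  have hone : ∀ s : B, s ∉ n → ∃ t v : B, v ∈ n ∧ t * s + v = 1 := fun s hs => by
    obtain ⟨t, ht⟩ := Ideal.IsMaximal.exists_inv (I := n) inferInstance hs
    obtain ⟨v, hv, h⟩ := ht
    exact ⟨t, v, hv, h⟩
  have hk : ∀ x ∈ Xk C n i, g x ∈ Xk (locCx S C) 𝔪 i := fun x hx => by
    refine (mem_Xk _ _).2 ?_
    let K : Ideal L := LinearMap.ker (LinearMap.toSpanSingleton L ((C.X i).localizedModule S) (g x))
    have hle : 𝔪 ≤ K := by
      rw [hm, Ideal.map_le_iff_le_comap]
      intro a ha
      show algebraMap B L a • g x = 0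
      rw [algebraMap_smul, ← map_smul, (mem_Xk C n).1 hx a ha, map_zero]
    exact fun b hb => hle hb
  refine ⟨fun x hx => ⟨hk x hx, fun h0 => ?_⟩, fun y hy => ?_⟩
  · obtain ⟨s, hs⟩ := (IsLocalizedModule.eq_zero_iff S g).1 h0
    obtain ⟨t, v, hv, htv⟩ := hone s s.2
    rw [← one_smul B x, ← htv, add_smul, mul_smul, (mem_Xk C n).1 hx v hv, add_zero]
    rw [Submonoid.smul_def] at hs
    rw [hs, smul_zero]
  · classical
    let y' : (C.X i).localizedModule S := y
    obtain ⟨r, gen, hgen⟩ := Submodule.fg_iff_exists_fin_generating_family.1 (IsNoetherian.noetherian n)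
    obtain ⟨⟨x', s⟩, hxs⟩ := IsLocalizedModule.surj S g y'
    have hy' : ∀ b ∈ n, b • y' = 0 := fun b hb => by
      rw [← algebraMap_smul L b y']
      refine (mem_Xk _ _).1 hy _ ?_
      show algebraMap B L b ∈ 𝔪
      rw [hm]
      exact Ideal.mem_map_of_mem _ hb
    have hx0 : ∀ l, g (gen l • x') = 0 := fun l => by
      rw [map_smul, ← hxs, Submonoid.smul_def, smul_comm, hy' _ (hgen ▸ Submodule.subset_span ⟨l, rfl⟩), smul_zero]
    choose c hc using fun l => (IsLocalizedModule.eq_zero_iff S g).1 (hx0 l)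
    let C₀ : S := ∏ l, c l
    obtain ⟨t, v, hv, htv⟩ := hone ((C₀ * s : S) : B) (C₀ * s : S).2
    refine ⟨t • (C₀ : B) • x', (Xk C n i).smul_mem _ ?_, ?_⟩
    · refine (mem_Xk C n).2 ?_
      have hle : n ≤ LinearMap.ker (LinearMap.toSpanSingleton B (C.X i) ((C₀ : B) • x')) := by
        rw [← hgen, Submodule.span_le]
        rintro _ ⟨l, rfl⟩
        show gen l • (C₀ : B) • x' = 0
        rw [smul_comm, show (C₀ : B) = ((∏ j ∈ Finset.univ.erase l, c j : S) : B) * (c l : B) by
          rw [← Submonoid.coe_mul, Finset.prod_erase_mul _ _ (Finset.mem_univ l)], mul_smul,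
          show (c l : B) • gen l • x' = 0 from hc l, smul_zero]
      exact fun a ha => hle ha
    · show g (t • (C₀ : B) • x') = y'
      rw [map_smul, map_smul, ← hxs, Submonoid.smul_def, smul_smul, smul_smul]
      conv_rhs => rw [← one_smul B y', ← htv, add_smul, hy' v hv, add_zero]
      rw [Submonoid.coe_mul, mul_assoc]

theorem res_loc {B : Type u} [CommRing B] [IsNoetherianRing B] {C : DRing.Cx B} (n : Ideal B) [n.IsMaximal] {d : ℤ}
    (h : Res C n d) : Res (locCx n.primeCompl C) (IsLocalRing.maximalIdeal (Localization n.primeCompl)) d := by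
  let S := n.primeCompl
  let L := Localization S
  obtain ⟨h0, x, hx, hann, hgen⟩ := h
  have hcy : ∀ i (y : C.X i), y ∈ Xk C n i → ((locCx S C).d i (i + 1) ((C.X i).localizedModuleMkLinearMap S y) = 0 ↔
      C.d i (i + 1) y = 0) := fun i y hy => by
    rw [show (locCx S C).d i (i + 1) ((C.X i).localizedModuleMkLinearMap S y) =
      (C.X (i + 1)).localizedModuleMkLinearMap S (C.d i (i + 1) y) from locF_map_mk S _ _]
    exact ⟨((killed_bijection C n (i + 1)).1 _ (map_mem_Xk C n (C.d i (i + 1)).hom hy)).2,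
      fun h => by rw [h, map_zero]; rfl⟩
  have hbd : ∀ i (y : C.X i), XBd C n i y → XBd (locCx S C) (IsLocalRing.maximalIdeal L) i
      ((C.X i).localizedModuleMkLinearMap S y) := fun i y ⟨z, hz, hd⟩ =>
    ⟨_, ((killed_bijection C n (i - 1)).1 z hz).1, by rw [← hd]; exact locF_map_mk S _ _⟩
  have hlift : ∀ i y, XCy (locCx S C) (IsLocalRing.maximalIdeal L) i y →
      ∃ y₀, XCy C n i y₀ ∧ (C.X i).localizedModuleMkLinearMap S y₀ = y := fun i y hy => by
    obtain ⟨y₀, hy₀, rfl⟩ := (killed_bijection C n i).2 y hy.1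
    exact ⟨y₀, ⟨hy₀, (hcy i y₀ hy₀).1 hy.2⟩, rfl⟩
  refine ⟨fun i hi y hy => ?_, (C.X d).localizedModuleMkLinearMap S x,
    ⟨((killed_bijection C n d).1 x hx.1).1, (hcy d x hx.1).2 hx.2⟩, fun b hb => ?_, fun y hy => ?_⟩
  · obtain ⟨y₀, hy₀, rfl⟩ := hlift i y hy
    exact hbd i y₀ (h0 i hi y₀ hy₀)
  · by_contra hbm
    obtain ⟨u, rfl⟩ := IsLocalRing.notMem_maximalIdeal.1 hbm
    obtain ⟨z, hz, hdz⟩ := hb
    obtain ⟨z₀, hz₀, hz'⟩ := (killed_bijection C n (d - 1)).2 ((↑u⁻¹ : L) • z) ((Xk _ _ _).smul_mem _ hz)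
    refine (inferInstance : n.IsMaximal).ne_top ((Ideal.eq_top_iff_one _).2 (hann 1 ⟨z₀, hz₀, ?_⟩))
    rw [one_smul, ← sub_eq_zero]
    refine ((killed_bijection C n d).1 _ ((Xk C n d).sub_mem (map_mem_Xk C n (C.d (d - 1) d).hom hz₀) hx.1)).2 ?_
    have h1 : (locCx S C).d (d - 1) d ((↑u⁻¹ : L) • z) = (C.X d).localizedModuleMkLinearMap S (C.d (d - 1) d z₀) := by
      rw [← hz']; exact locF_map_mk S _ _
    rw [map_sub, ← h1, map_smul, hdz, smul_smul, Units.inv_mul, one_smul, sub_eq_zero]
  · obtain ⟨y₀, hy₀, rfl⟩ := hlift d y hy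
    obtain ⟨a, ha⟩ := hgen y₀ hy₀
    refine ⟨algebraMap B L a, ?_⟩
    have := hbd d _ ha
    rw [map_sub, map_smul] at this
    let y' : (C.X d).localizedModule S := (C.X d).localizedModuleMkLinearMap S x
    show XBd (locCx S C) (IsLocalRing.maximalIdeal L) d
      ((((C.X d).localizedModuleMkLinearMap S y₀ : (C.X d).localizedModule S)) - (algebraMap B L a • y') : (C.X d).localizedModule S)
    rw [algebraMap_smul]
    exact this

variable {A B : Type u} [CommRing A] [CommRing B] [Algebra A B]

theorem finite_homology_coext [IsNoetherianRing A] [Module.Finite A B] (W : DRing.Cx A) (hW : ∀ i, Injective (W.X i))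
    (lo : ℤ) [W.IsStrictlyGE lo] (hH : ∀ i, Module.Finite A (W.homology i)) (i : ℤ) :
    Module.Finite B ((coextCx B W).homology i) := by
  classical
  obtain ⟨r, fl, hfl, hfs⟩ := finV hW lo hH B i
  choose z hz using fun l => (toH_bijective (W := W) (B := B) i).2 (fl l)
  let S := (coextCx B W).sc' (i - 1) i (i + 1)
  have hzc : ∀ l, S.g.hom (z l) = 0 := fun l => coext_d_eq_zero.2 (by rw [hz l]; exact hfl l)
  let gen : Fin r → S.moduleCatLeftHomologyData.H := fun l =>
    (LinearMap.range S.moduleCatToCycles).mkQ ⟨z l, LinearMap.mem_ker.2 (hzc l)⟩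
  haveI : Module.Finite B S.moduleCatLeftHomologyData.H := by
    refine Module.Finite.of_surjective (Fintype.linearCombination B gen) fun q => ?_
    obtain ⟨⟨y, hy⟩, rfl⟩ := Submodule.Quotient.mk_surjective _ q
    have hy' : (W.d i (i + 1)).hom ∘ₗ toH (B := B) (W := W) y = 0 := coext_d_eq_zero.1 (LinearMap.mem_ker.1 hy)
    obtain ⟨c, g, hcg⟩ := hfs (toH (B := B) (W := W) y) hy'
    obtain ⟨w, hw⟩ := (toH_bijective (W := W) (B := B) (i - 1)).2 g
    refine ⟨fun l => algebraMap A B (c l), ?_⟩
    rw [Fintype.linearCombination_apply]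
    rw [show (∑ l, algebraMap A B (c l) • gen l) = (LinearMap.range S.moduleCatToCycles).mkQ
        (∑ l, algebraMap A B (c l) • (⟨z l, LinearMap.mem_ker.2 (hzc l)⟩ : LinearMap.ker S.g.hom)) from by
      rw [map_sum]; exact Finset.sum_congr rfl fun l _ => (map_smul _ _ _).symm]
    refine (Submodule.Quotient.eq _).2 ?_
    refine ⟨-w, Subtype.ext ?_⟩
    rw [AddSubgroupClass.coe_sub, AddSubmonoidClass.coe_finsetSum]
    let y₁ : (coextCx B W).X i := y
    show (coextCx B W).d (i - 1) i (-w) = (∑ l, algebraMap A B (c l) • z l) - y₁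
    refine (toH_bijective (W := W) (B := B) i).1 (LinearMap.ext fun b => ?_)
    show toH (B := B) (W := W) ((coextCx B W).d (i - 1) i (-w)) b = _
    rw [map_neg, show toH (B := B) (W := W) (-(coextCx B W).d (i - 1) i w) =
      -toH (B := B) (W := W) ((coextCx B W).d (i - 1) i w) from map_neg _ _, toH_d, hw, toH_sub, show toH (B := B) (W := W) y₁ = toH (B := B) (W := W) y from rfl, hcg]
    show _ = toH (B := B) (W := W) (∑ l, algebraMap A B (c l) • z l) b -
      ((∑ l, c l • fl l) + (W.d (i - 1) i).hom ∘ₗ g) b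
    rw [show toH (B := B) (W := W) (∑ l, algebraMap A B (c l) • z l) =
      ∑ l, toH (B := B) (W := W) (algebraMap A B (c l) • z l) from map_sum _ _ _, LinearMap.sum_apply,
      LinearMap.add_apply, LinearMap.sum_apply]
    simp only [LinearMap.smul_apply, LinearMap.neg_apply, toH_smul, hz, ← Algebra.commutes, ← Algebra.smul_def, map_smul]
    abel
  exact Module.Finite.equiv
    ((coextCx B W).homologyIsoSc' (i - 1) i (i + 1) (by simp) (by simp) ≪≫ S.moduleCatHomologyIso).toLinearEquiv.symm

theorem isDualizing_coext [IsNoetherianRing A] [IsNoetherianRing B] [Module.Finite A B] {ω : Dual.D A}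
    (hω : Dual.IsDualizing A ω) (M : Model ω) : Dual.IsDualizing B (DerivedCategory.Q.obj (coextCx B M.W)) := by
  let C := coextCx B M.W
  have hC : ∀ i, Injective (C.X i) := injective_coextCx M.W M.inj
  haveI : C.IsKInjective := @CochainComplex.isKInjective_of_injective _ _ _ C M.lo _ hC
  let MC : Model (DerivedCategory.Q.obj C) :=
    { W := C, lo := M.lo, hi := M.hi, isGE := inferInstance, isLE := inferInstance, inj := hC, kinj := inferInstance,
      e := Iso.refl _ }
  have hfin : ∀ i, Module.Finite B (C.homology i) := finite_homology_coext M.W M.inj M.lo (finite_homology hω M)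
  refine isDualizing_of_cover (fun i => ?_) MC covers_maximal fun n => ?_
  · haveI h1 : Module.Finite B ((HomologicalComplex.homologyFunctor (ModuleCat.{u} B) (ComplexShape.up ℤ) i).obj C) := hfin i
    exact Module.Finite.equiv ((DerivedCategory.homologyFunctorFactors (ModuleCat.{u} B) i).app C).toLinearEquiv.symm
  obtain ⟨n, hn⟩ := n
  haveI : Algebra.IsIntegral A B := Algebra.IsIntegral.of_finite A B
  haveI : (n.comap (algebraMap A B)).IsMaximal := Ideal.isMaximal_comap_of_isIntegral_of_isMaximal n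
  obtain ⟨d, hvan, ⟨el⟩⟩ := ext_residue hω (n.comap (algebraMap A B))
  have hresA : Res M.W (n.comap (algebraMap A B)) d :=
    res_of_hom (fun i hi => haveI := hvan i hi
        (Linear.homCongr A (Iso.refl _) ((shiftFunctor (Dual.D A) i).mapIso M.e)).toEquiv.subsingleton)
      ((Linear.homCongr A (Iso.refl _) ((shiftFunctor (Dual.D A) d).mapIso M.e)) ≪≫ₗ el)
  let M' := locModel MC n.primeCompl
  haveI : (locCx n.primeCompl C).IsKInjective := M'.kinj
  haveI : IsNoetherianRing (Localization n.primeCompl) := IsLocalization.isNoetherianRing n.primeCompl _ inferInstance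
  obtain ⟨hvan', hel'⟩ := hom_of_res (res_loc n (res_coext n _ rfl hresA))
  refine isDualizing_of_residue _ (fun i => ?_) ⟨M.lo, fun i hi => ModuleCat.subsingleton_of_isZero
    (DerivedCategory.isZero_of_isGE _ M.lo i hi)⟩ d hvan' hel'
  haveI h1 : Module.Finite (Localization n.primeCompl)
      ((HomologicalComplex.homologyFunctor (ModuleCat.{u} (Localization n.primeCompl)) (ComplexShape.up ℤ) i).obj
        (locCx n.primeCompl C)) := finite_homology_locCx n.primeCompl C i (hfin i)
  exact Module.Finite.equiv ((DerivedCategory.homologyFunctorFactors (ModuleCat.{u} (Localization n.primeCompl)) i).app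
    (locCx n.primeCompl C)).toLinearEquiv.symm

theorem isDualizing_rightAdjoint [IsNoetherianRing A] [IsNoetherianRing B] [Module.Finite A B]
    (R : Dual.D A ⥤ Dual.D B) (adj : DRing.restrictD (algebraMap A B) ⊣ R) {ω : Dual.D A}
    (hω : Dual.IsDualizing A ω) : Dual.IsDualizing B (R.obj ω) := by
  let M := model hω
  haveI : (coextCx B M.W).IsKInjective :=
    @CochainComplex.isKInjective_of_injective _ _ _ (coextCx B M.W) M.lo _ (injective_coextCx M.W M.inj)
  obtain ⟨e⟩ := nonempty_rightAdjoint_iso M.W R adj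
  exact isDualizing_of_iso (e.symm ≪≫ R.mapIso M.e) (isDualizing_coext hω M)

theorem exists_isDualizing_of_finite [IsNoetherianRing A] [IsNoetherianRing B] [Module.Finite A B] {ω : Dual.D A}
    (hω : Dual.IsDualizing A ω) : ∃ ω' : Dual.D B, Dual.IsDualizing B ω' :=
  ⟨_, isDualizing_coext hω (model hω)⟩

end Groth.Agent.DlzFin27
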