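import Groth.Agent.Lib.DlzFin27.Triangle
import Groth.Agent.Lib.Dlz27.Gamma
import Mathlib.Algebra.Homology.DerivedCategory.Fractions
import Mathlib.RingTheory.FiniteLength
import Mathlib.RingTheory.Nakayama

/-!
# `Hom(I, W)` for an ideal of finite length
-/

set_option autoImplicit false
universe u

open CategoryTheory CategoryTheory.Limits

attribute [local instance] HasDerivedCategory.standard

noncomputable section

namespace Groth.Agent.DlzFin27

open Dlz27

variable {A : Type u} [CommRing A] [IsLocalRing A] [IsNoetherianRing A]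

theorem killed_of_isFiniteLength (N : Type u) [AddCommGroup N] [Module A N] (h : IsFiniteLength A N) :
    Dlz27.Killed (A := A) N := by
  obtain ⟨_, _⟩ := isFiniteLength_iff_isNoetherian_isArtinian.1 h
  let m := IsLocalRing.maximalIdeal A
  obtain ⟨n, hn⟩ := IsArtinian.monotone_stabilizes (R := A) (M := N)
    ⟨fun k => OrderDual.toDual ((m ^ k) • (⊤ : Submodule A N)),
      fun a b hab => Submodule.smul_mono_left (Ideal.pow_le_pow_right hab)⟩
  have hN : (m ^ n) • (⊤ : Submodule A N) = m • ((m ^ n) • (⊤ : Submodule A N)) := by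
    rw [← Submodule.mul_smul, ← pow_succ']
    exact OrderDual.toDual.injective (hn (n + 1) n.le_succ)
  have h0 : (m ^ n) • (⊤ : Submodule A N) = ⊥ :=
    Submodule.eq_bot_of_le_smul_of_le_jacobson_bot m _ (IsNoetherian.noetherian _) hN.le
      (IsLocalRing.maximalIdeal_le_jacobson _)
  refine ⟨n, fun a ha x => ?_⟩
  have := Submodule.smul_mem_smul ha (Submodule.mem_top (x := x))
  rw [h0, Submodule.mem_bot] at this
  exact this

theorem nonempty_homI_iso {ω : Dual.D A} (hω : Dual.IsDualizing A ω) (hn : Dual.IsNormalized A ω) (M : Model ω)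
    (I : Ideal A) (hI : Dlz27.Killed (A := A) I) (E : Type u) [AddCommGroup E] [Module A E] (eE : H0 M ≃ₗ[A] E) :
    Nonempty (DerivedCategory.Q.obj (homI M.W I) ≅ Dual.inD A (I →ₗ[A] E)) := by
  obtain ⟨s, hs⟩ := exists_section M hω hn
  let Y := ModuleCat.of A (I →ₗ[A] E)
  let lift : (I →ₗ[A] E) →ₗ[A] (I →ₗ[A] M.W.X 0) := LinearMap.compRight A (M := I)
    ((G M 0).subtype ∘ₗ (cy M 0).subtype ∘ₗ s ∘ₗ eE.symm.toLinearMap)
  have hlift : ∀ u, (M.W.d 0 (0 + 1)).hom ∘ₗ lift u = 0 := fun u =>
    LinearMap.ext fun x => congrArg Subtype.val (s (eE.symm (u x))).2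
  have hto : ∀ u, toH0 M hI ⟨lift u, hlift u⟩ = eE.symm.toLinearMap ∘ₗ u := fun u => LinearMap.ext fun x => by
    rw [toH0_apply]; exact hs _
  have hbd : ∀ f g : cocy M I, toH0 M hI f = toH0 M hI g → ∃ t : I →ₗ[A] M.W.X (0 - 1),
      (M.W.d (0 - 1) 0).hom ∘ₗ t = f.1 - g.1 := fun f g h => by
    rw [← psi_cl M hI, ← psi_cl M hI] at h
    exact (cl_eq_iff M _ _ (cocy_d M f) (cocy_d M g)).1 ((psi_bijective M hω hn hI).1 h)
  let σ : (HomologicalComplex.single (ModuleCat.{u} A) (ComplexShape.up ℤ) 0).obj Y ⟶ homI M.W I :=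
    HomologicalComplex.mkHomFromSingle (ModuleCat.ofHom (Y := (homI M.W I).X 0) lift) (fun j hj => by
      obtain rfl : j = 0 + 1 := (show (0 : ℤ) + 1 = j from hj).symm
      exact ModuleCat.hom_ext (LinearMap.ext fun u => hlift u))
  have hσ : ∀ w, (σ.f 0) w = lift ((HomologicalComplex.singleObjXSelf (ComplexShape.up ℤ) 0 Y).hom w) := fun w => by
    simp only [σ, HomologicalComplex.mkHomFromSingle_f]
    rfl
  have hfin : ∀ j, j ≠ (0 : ℤ) → Subsingleton
      (((HomologicalComplex.single (ModuleCat.{u} A) (ComplexShape.up ℤ) 0).obj Y).X j) := fun j hj =>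
    ModuleCat.subsingleton_of_isZero (HomologicalComplex.isZero_single_obj_X _ _ _ _ hj)
  have hbij : ∀ j, Function.Bijective (HomologicalComplex.homologyMap σ j) := by
    intro j
    have hp : (ComplexShape.up ℤ).prev j = j - 1 := by simp
    have hq : (ComplexShape.up ℤ).next j = j + 1 := by simp
    refine DMod.homologyMap_bijective_of σ hp hq (fun x hx => ?_) (fun w y _ hy => ?_)
    · let x' : I →ₗ[A] M.W.X j := x
      by_cases hj : j = 0
      · subst hj
        have hxc : (M.W.d 0 (0 + 1)).hom ∘ₗ x' = 0 := hx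
        let u : I →ₗ[A] E := eE.toLinearMap ∘ₗ toH0 M hI ⟨x', hxc⟩
        have hu : toH0 M hI ⟨lift u, hlift u⟩ = toH0 M hI ⟨x', hxc⟩ := by
          rw [hto]; exact LinearMap.ext fun a => eE.symm_apply_apply _
        obtain ⟨t, ht⟩ := hbd ⟨x', hxc⟩ ⟨lift u, hlift u⟩ hu.symm
        let w := (HomologicalComplex.singleObjXSelf (ComplexShape.up ℤ) 0 Y).inv u
        have hw : (HomologicalComplex.singleObjXSelf (ComplexShape.up ℤ) 0 Y).hom w = u :=
          CategoryTheory.Iso.inv_hom_id_apply (HomologicalComplex.singleObjXSelf (ComplexShape.up ℤ) 0 Y) u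
        refine ⟨w, t, ?_, ?_⟩
        · haveI := hfin (0 + 1) (by omega)
          exact Subsingleton.elim _ _
        · rw [hσ, hw]
          show lift u + (M.W.d (0 - 1) 0).hom ∘ₗ t = x'
          rw [ht]
          exact add_sub_cancel _ _
      · haveI : Module.Finite A I := Module.Finite.of_fg (IsNoetherian.noetherian I)
        obtain ⟨g, hg⟩ := van_killed M hω hn I hI j hj x' hx
        refine ⟨0, g, map_zero _, ?_⟩
        rw [map_zero, zero_add]
        exact hg
    · by_cases hj : j = 0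
      · subst hj
        refine ⟨0, ?_⟩
        rw [map_zero]
        let u : I →ₗ[A] E := (HomologicalComplex.singleObjXSelf (ComplexShape.up ℤ) 0 Y).hom w
        let y' : I →ₗ[A] M.W.X (0 - 1) := y
        have h1 : (M.W.d (0 - 1) 0).hom ∘ₗ y' = lift u := hy.trans (hσ w)
        have h2 : clLin M I ⟨lift u, hlift u⟩ = 0 := (cl_eq_zero_iff M (lift u) (hlift u)).2 ⟨y', h1⟩
        have h3 := congrArg (psi M hI) h2
        rw [psi_cl, map_zero, hto] at h3
        have hu : u = 0 := LinearMap.ext fun a => eE.symm.injective ((LinearMap.congr_fun h3 a).trans (map_zero eE.symm).symm)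
        rw [← CategoryTheory.Iso.hom_inv_id_apply (HomologicalComplex.singleObjXSelf (ComplexShape.up ℤ) 0 Y) w]
        exact ((congrArg (HomologicalComplex.singleObjXSelf (ComplexShape.up ℤ) 0 Y).inv hu).trans (map_zero _)).symm
      · haveI := hfin j hj
        exact ⟨0, Subsingleton.elim _ _⟩
  haveI : QuasiIso σ := ⟨fun j => by
    rw [quasiIsoAt_iff_isIso_homologyMap]
    exact (ConcreteCategory.isIso_iff_bijective _).2 (hbij j)⟩
  exact ⟨(asIso (DerivedCategory.Q.map σ)).symm ≪≫
    ((DerivedCategory.singleFunctorIsoCompQ (ModuleCat.{u} A) 0).app Y).symm⟩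

end Groth.Agent.DlzFin27
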