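import Groth.Agent.Lib.DlzFin27.Finite
import Groth.Agent.Lib.DMod.Homology
import Mathlib.Algebra.Homology.DerivedCategory.ShortExact
import Mathlib.Algebra.Homology.DerivedCategory.Linear

/-!
# Triangles with a vertex `Hom_A(A/I, W)`
-/

set_option autoImplicit false
universe u

open CategoryTheory CategoryTheory.Limits CategoryTheory.Pretriangulated

attribute [local instance] HasDerivedCategory.standard

noncomputable section

namespace Groth.Agent.DlzFin27

open Dlz27

theorem exists_triangle_of_shortExact {A : Type u} [CommRing A] {S : ShortComplex (DRing.Cx A)} (hS : S.ShortExact)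
    {Y₁ Y₂ Y₃ : Dual.D A} (e₁ : DerivedCategory.Q.obj S.X₁ ≅ Y₁) (e₂ : DerivedCategory.Q.obj S.X₂ ≅ Y₂)
    (e₃ : DerivedCategory.Q.obj S.X₃ ≅ Y₃) :
    ∃ (u : Y₁ ⟶ Y₂) (w : Y₃ ⟶ Y₁⟦(1 : ℤ)⟧),
      Triangle.mk u (e₂.inv ≫ DerivedCategory.Q.map S.g ≫ e₃.hom) w ∈ distinguishedTriangles := by
  refine ⟨e₁.inv ≫ DerivedCategory.Q.map S.f ≫ e₂.hom,
    e₃.inv ≫ (DerivedCategory.triangleOfSES hS).mor₃ ≫ (shiftFunctor (Dual.D A) (1 : ℤ)).map e₁.hom, ?_⟩
  refine isomorphic_distinguished _ (DerivedCategory.triangleOfSES_distinguished hS) _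
    (Triangle.isoMk _ _ e₁.symm e₂.symm e₃.symm ?_ ?_ ?_)
  · exact (Category.assoc _ _ _).trans (congrArg (_ ≫ ·) ((Category.assoc _ _ _).trans
      ((congrArg (_ ≫ ·) e₂.hom_inv_id).trans (Category.comp_id _))))
  · exact (Category.assoc _ _ _).trans (congrArg (_ ≫ ·) ((Category.assoc _ _ _).trans
      ((congrArg (_ ≫ ·) e₃.hom_inv_id).trans (Category.comp_id _))))
  · refine (Category.assoc _ _ _).trans (congrArg (_ ≫ ·) ((Category.assoc _ _ _).trans ?_))
    refine (congrArg (_ ≫ ·) ?_).trans (Category.comp_id _)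
    exact ((shiftFunctor (Dual.D A) (1 : ℤ)).map_comp _ _).symm.trans
      ((congrArg _ e₁.hom_inv_id).trans (CategoryTheory.Functor.map_id _ _))

variable {A B : Type u} [CommRing A] [CommRing B] [Algebra A B]

variable (B) in
/-- `Hom_A(B, W)` over `A`. -/
abbrev resCoext (W : DRing.Cx A) : DRing.Cx A :=
  ((ModuleCat.restrictScalars.{u} (algebraMap A B)).mapHomologicalComplex (ComplexShape.up ℤ)).obj (coextCx B W)

variable (B) in
/-- Evaluation at one. -/
def evalMap (W : DRing.Cx A) : resCoext B W ⟶ W where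
  f j := ModuleCat.ofHom (X := (resCoext B W).X j)
    { toFun := fun x => toH (x : (coextCx B W).X j) 1
      map_add' := fun x y => LinearMap.congr_fun (map_add (InjHullLib.coextendToHom (A := A) (B := B))
        (x : (coextCx B W).X j) y) 1
      map_smul' := fun a x => by
        let x' : (coextCx B W).X j := x
        show toH (algebraMap A B a • x') 1 = a • toH x' 1
        rw [toH_smul, one_mul, Algebra.algebraMap_eq_smul_one, map_smul] }
  comm' i j _ := ModuleCat.hom_ext (LinearMap.ext fun _ => rfl)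

theorem evalMap_injective (hs : Function.Surjective (algebraMap A B)) (W : DRing.Cx A) (j : ℤ) :
    Function.Injective ((evalMap B W).f j) := fun x y h => by
  refine (toH_bijective (W := W) (B := B) j).1 (LinearMap.ext fun b => ?_)
  obtain ⟨a, rfl⟩ := hs b
  rw [Algebra.algebraMap_eq_smul_one, map_smul, map_smul]
  exact congrArg (a • ·) h

theorem mem_range_evalMap (hs : Function.Surjective (algebraMap A B)) (W : DRing.Cx A) (j : ℤ) (y : W.X j) :
    (∃ x, (evalMap B W).f j x = y) ↔ ∀ a ∈ RingHom.ker (algebraMap A B), a • y = 0 := by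
  constructor
  · rintro ⟨x, rfl⟩ a ha
    show a • toH (x : (coextCx B W).X j) 1 = 0
    rw [← map_smul, ← Algebra.algebraMap_eq_smul_one, RingHom.mem_ker.1 ha, map_zero]
  · intro h
    let g : B →ₗ[A] W.X j := (LinearMap.ker (Algebra.linearMap A B)).liftQ (LinearMap.toSpanSingleton A (W.X j) y)
      (fun a ha => h a ha) ∘ₗ ((Algebra.linearMap A B).quotKerEquivOfSurjective hs).symm.toLinearMap
    obtain ⟨x, hx⟩ := (toH_bijective (W := W) (B := B) j).2 g
    refine ⟨x, show toH x 1 = y from ?_⟩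
    rw [hx, show (1 : B) = Algebra.linearMap A B 1 from (map_one (algebraMap A B)).symm]
    show (LinearMap.ker (Algebra.linearMap A B)).liftQ (LinearMap.toSpanSingleton A (W.X j) y) (fun a ha => h a ha)
      (((Algebra.linearMap A B).quotKerEquivOfSurjective hs).symm (Algebra.linearMap A B 1)) = y
    rw [show ((Algebra.linearMap A B).quotKerEquivOfSurjective hs).symm (Algebra.linearMap A B 1) =
      Submodule.Quotient.mk 1 from (LinearEquiv.symm_apply_eq _).2 rfl]
    exact one_smul A y

theorem shortExact_evalMap (hs : Function.Surjective (algebraMap A B)) {W Z : DRing.Cx A} (π : W ⟶ Z)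
    (hker : ∀ j (y : W.X j), π.f j y = 0 ↔ ∀ a ∈ RingHom.ker (algebraMap A B), a • y = 0)
    (hsurj : ∀ j, Function.Surjective (π.f j)) :
    ∃ w : evalMap B W ≫ π = 0, (ShortComplex.mk (evalMap B W) π w).ShortExact := by
  have w : evalMap B W ≫ π = 0 := HomologicalComplex.hom_ext _ _ fun j => ModuleCat.hom_ext (LinearMap.ext fun x =>
    (hker j _).2 ((mem_range_evalMap hs W j _).1 ⟨x, rfl⟩))
  refine ⟨w, HomologicalComplex.shortExact_of_degreewise_shortExact _ fun j =>
    { exact := (ShortComplex.moduleCat_exact_iff _).2 fun y hy => (mem_range_evalMap hs W j y).2 ((hker j y).1 hy)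
      mono_f := (ModuleCat.mono_iff_injective _).2 (evalMap_injective hs W j)
      epi_g := (ModuleCat.epi_iff_surjective _).2 (hsurj j) }⟩

theorem surjective_nzd (W : DRing.Cx A) (hW : ∀ j, Injective (W.X j)) {f : A} (hf : f ∈ nonZeroDivisors A) (j : ℤ)
    (y : W.X j) : ∃ x : W.X j, f • x = y := by
  obtain ⟨F, hF⟩ := exists_extend (hW j) (i := LinearMap.toSpanSingleton A A f)
    (fun a b h => mul_right_cancel₀_of_nzd hf h) (LinearMap.toSpanSingleton A (W.X j) y)
  refine ⟨F 1, ?_⟩
  have := LinearMap.congr_fun hF 1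
  rw [LinearMap.comp_apply, LinearMap.toSpanSingleton_apply, LinearMap.toSpanSingleton_apply, one_smul, one_smul] at this
  rw [← map_smul, smul_eq_mul, mul_one, this]
where
  mul_right_cancel₀_of_nzd {f : A} (hf : f ∈ nonZeroDivisors A) {a b : A} (h : a • f = b • f) : a = b :=
    (mul_cancel_right_mem_nonZeroDivisors hf).1 h

/-- The complex `Hom(I, W)`. -/
def homI (W : DRing.Cx A) (I : Ideal A) : DRing.Cx A where
  X j := ModuleCat.of A (I →ₗ[A] W.X j)
  d i j := ModuleCat.ofHom (LinearMap.compRight A (M := I) (W.d i j).hom)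
  shape i j h := ModuleCat.hom_ext (LinearMap.ext fun g => LinearMap.ext fun x => by
    show W.d i j (g x) = 0
    rw [W.shape i j h]; rfl)
  d_comp_d' i j k _ _ := ModuleCat.hom_ext (LinearMap.ext fun g => LinearMap.ext fun x => d_d W i j k (g x))

/-- The map `x ↦ (a ↦ a • x)`. -/
def piI (W : DRing.Cx A) (I : Ideal A) : W ⟶ homI W I where
  f j := ModuleCat.ofHom (Y := (homI W I).X j)
    { toFun := fun x => (LinearMap.toSpanSingleton A (W.X j) x ∘ₗ I.subtype : I →ₗ[A] W.X j)
      map_add' := fun x y => LinearMap.ext fun a => smul_add (a : A) x y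
      map_smul' := fun c x => LinearMap.ext fun a => smul_comm (a : A) c x }
  comm' i j _ := ModuleCat.hom_ext (LinearMap.ext fun x => LinearMap.ext fun a => map_smul (W.d i j).hom (a : A) x)

theorem piI_eq_zero_iff (W : DRing.Cx A) (I : Ideal A) (j : ℤ) (y : W.X j) :
    (piI W I).f j y = 0 ↔ ∀ a ∈ I, a • y = 0 :=
  ⟨fun h a ha => LinearMap.congr_fun h ⟨a, ha⟩, fun h => LinearMap.ext fun a => h a a.2⟩

theorem piI_surjective (W : DRing.Cx A) (hW : ∀ j, Injective (W.X j)) (I : Ideal A) (j : ℤ) :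
    Function.Surjective ((piI W I).f j) := fun g => by
  obtain ⟨F, hF⟩ := exists_extend (hW j) I.injective_subtype (g : I →ₗ[A] W.X j)
  let g' : I →ₗ[A] W.X j := g
  refine ⟨F 1, LinearMap.ext (fun a => ?_ : ∀ a, (LinearMap.toSpanSingleton A (W.X j) (F 1) ∘ₗ I.subtype) a = g' a)⟩
  show (a : A) • F 1 = g' a
  rw [← map_smul, smul_eq_mul, mul_one]
  exact LinearMap.congr_fun hF a

/-- The first vertex. -/
theorem nonempty_restrict_rightAdjoint {A B : Type u} [CommRing A] [CommRing B] [Algebra A B] {ω : Dual.D A} (M : Dlz27.Model ω)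
    (R : Dual.D A ⥤ Dual.D B) (adj : DRing.restrictD (algebraMap A B) ⊣ R) :
    Nonempty (DerivedCategory.Q.obj (resCoext B M.W) ≅ (DRing.restrictD (algebraMap A B)).obj (R.obj ω)) := by
  haveI : (coextCx B M.W).IsKInjective :=
    @CochainComplex.isKInjective_of_injective _ _ _ (coextCx B M.W) M.lo _ (injective_coextCx M.W M.inj)
  obtain ⟨eR⟩ := nonempty_rightAdjoint_iso M.W R adj
  exact ⟨(((ModuleCat.restrictScalars.{u} (algebraMap A B)).mapDerivedCategoryFactors).app (coextCx B M.W)).symm ≪≫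
    (DRing.restrictD (algebraMap A B)).mapIso (eR.symm ≪≫ R.mapIso M.e)⟩

end Groth.Agent.DlzFin27
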